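import Mathlib
import Groth.Prelude.Def_DualLC
import Groth.Prelude.Def_EGA4b
import Groth.Agent.Lib.Helper4.BootDepth
import Groth.Agent.Lib.Helper4.RelCodim
import Groth.Agent.Lib.Helper14.ComplEtale

/-!
# The cutoff invariant under completion, part 1 (helper14)
-/

set_option autoImplicit false
set_option linter.style.haveILetI false
set_option linter.unusedSectionVars false
set_option linter.unusedVariables false
set_option maxHeartbeats 1600000

universe u

open TensorProduct IsLocalRing

namespace Groth.Agent.Lib.Helper14.Cutoff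

open Groth.Agent.Lib.Helper4

section general

variable {R S : Type u} [CommRing R] [CommRing S] [Algebra R S]

/-- A prime minimal over the extension of a prime along a flat map contracts to it. -/
theorem comap_eq_of_mem_minimalPrimes_map [Module.Flat R S] (p : Ideal R) [p.IsPrime]
    {P : Ideal S} (hP : P ∈ (p.map (algebraMap R S)).minimalPrimes) :
    P.comap (algebraMap R S) = p := by
  haveI : P.IsPrime := hP.1.1
  have h2 : p ≤ P.comap (algebraMap R S) := Ideal.map_le_iff_le_comap.mp hP.1.2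
  haveI : P.LiesOver (P.comap (algebraMap R S)) := ⟨rfl⟩
  obtain ⟨P', hP'P, hP'prime, hP'lo⟩ :=
    Ideal.exists_ideal_le_liesOver_of_le (p := p) (q := P.comap (algebraMap R S)) P h2
  have h3 : p.map (algebraMap R S) ≤ P' := by
    rw [Ideal.map_le_iff_le_comap, hP'lo.over]
  have h4 : P ≤ P' := hP.2 ⟨hP'prime, h3⟩ hP'P
  have : P' = P := le_antisymm hP'P h4
  rw [← this, hP'lo.over]

/-- Relative heights do not grow when passing to primes minimal over extensions. -/
theorem height_quotient_le [IsNoetherianRing R] [IsNoetherianRing S] (p q : Ideal R) [p.IsPrime] [q.IsPrime]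
    (hpq : p ≤ q) (p' q' : Ideal S) [p'.IsPrime] [q'.IsPrime] (hpq' : p' ≤ q')
    (hp : p'.comap (algebraMap R S) = p) (hq : q'.comap (algebraMap R S) = q)
    (hmin : q' ∈ (q.map (algebraMap R S)).minimalPrimes) :
    (q'.map (Ideal.Quotient.mk p')).height ≤ (q.map (Ideal.Quotient.mk p)).height := by
  have hle : p ≤ p'.comap (algebraMap R S) := hp.ge
  letI : Algebra (R ⧸ p) (S ⧸ p') := (Ideal.quotientMap p' (algebraMap R S) hle).toAlgebra
  have halg : ∀ a : R, algebraMap (R ⧸ p) (S ⧸ p') (Ideal.Quotient.mk p a) =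
      Ideal.Quotient.mk p' (algebraMap R S a) := fun a => rfl
  have hcm : ∀ (K J : Ideal S), K ≤ J → (J.map (Ideal.Quotient.mk K)).comap (Ideal.Quotient.mk K) = J := by
    intro K J hJ
    rw [Ideal.comap_map_of_surjective _ Ideal.Quotient.mk_surjective, ← RingHom.ker_eq_comap_bot,
      Ideal.mk_ker, sup_eq_left.mpr hJ]
  have hcmR : ∀ (K J : Ideal R), K ≤ J → (J.map (Ideal.Quotient.mk K)).comap (Ideal.Quotient.mk K) = J := by
    intro K J hJ
    rw [Ideal.comap_map_of_surjective _ Ideal.Quotient.mk_surjective, ← RingHom.ker_eq_comap_bot,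
      Ideal.mk_ker, sup_eq_left.mpr hJ]
  haveI h𝔮 : (q.map (Ideal.Quotient.mk p)).IsPrime :=
    Ideal.map_isPrime_of_surjective Ideal.Quotient.mk_surjective (by rwa [Ideal.mk_ker])
  haveI h𝔔 : (q'.map (Ideal.Quotient.mk p')).IsPrime :=
    Ideal.map_isPrime_of_surjective Ideal.Quotient.mk_surjective (by rwa [Ideal.mk_ker])
  haveI hlo : (q'.map (Ideal.Quotient.mk p')).LiesOver (q.map (Ideal.Quotient.mk p)) := by
    refine ⟨?_⟩
    ext x
    obtain ⟨a, rfl⟩ := Ideal.Quotient.mk_surjective x
    rw [Ideal.under_def, Ideal.mem_comap, halg]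
    have h1 : Ideal.Quotient.mk p a ∈ q.map (Ideal.Quotient.mk p) ↔ a ∈ q := by
      rw [← Ideal.mem_comap, hcmR p q hpq]
    have h2 : Ideal.Quotient.mk p' (algebraMap R S a) ∈ q'.map (Ideal.Quotient.mk p') ↔
        algebraMap R S a ∈ q' := by
      rw [← Ideal.mem_comap, hcm p' q' hpq']
    rw [h1, h2, ← hq, Ideal.mem_comap]
  have hmain := Ideal.height_le_height_add_of_liesOver (q.map (Ideal.Quotient.mk p))
    (q'.map (Ideal.Quotient.mk p'))
  set K := (q.map (Ideal.Quotient.mk p)).map (algebraMap (R ⧸ p) (S ⧸ p')) with hK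
  have hKle : K ≤ q'.map (Ideal.Quotient.mk p') := by
    rw [hK, Ideal.map_le_iff_le_comap, ← Ideal.under_def, ← hlo.over]
  -- `q'/p'` is minimal over `K`
  have hminK : q'.map (Ideal.Quotient.mk p') ∈ K.minimalPrimes := by
    refine ⟨⟨h𝔔, hKle⟩, ?_⟩
    rintro 𝔓 ⟨h𝔓, hK𝔓⟩ h𝔓le
    haveI := h𝔓
    set P := 𝔓.comap (Ideal.Quotient.mk p') with hP
    haveI : P.IsPrime := Ideal.comap_isPrime _ _
    have h1 : q.map (algebraMap R S) ≤ P := by
      rw [Ideal.map_le_iff_le_comap]
      intro a ha
      rw [Ideal.mem_comap, hP, Ideal.mem_comap, ← halg]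
      apply hK𝔓
      rw [hK]
      exact Ideal.mem_map_of_mem _ (Ideal.mem_map_of_mem _ ha)
    have h2 : P ≤ q' := by
      intro x hx
      have : Ideal.Quotient.mk p' x ∈ q'.map (Ideal.Quotient.mk p') := h𝔓le hx
      rwa [← Ideal.mem_comap, hcm p' q' hpq'] at this
    have h3 : q' ≤ P := hmin.2 ⟨inferInstance, h1⟩ h2
    calc q'.map (Ideal.Quotient.mk p') ≤ P.map (Ideal.Quotient.mk p') := Ideal.map_mono h3
      _ = 𝔓 := Ideal.map_comap_of_surjective _ Ideal.Quotient.mk_surjective _
  have hzero : ((q'.map (Ideal.Quotient.mk p')).map (Ideal.Quotient.mk K)).height = 0 := by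
    have hc := Ideal.comap_minimalPrimes_eq_of_surjective
      (Ideal.Quotient.mk_surjective (I := K)) (⊥ : Ideal ((S ⧸ p') ⧸ K))
    rw [← RingHom.ker_eq_comap_bot, Ideal.mk_ker] at hc
    rw [hc] at hminK
    obtain ⟨Qb, hQb, hQbeq⟩ := hminK
    haveI : Qb.IsPrime := hQb.1.1
    have : (q'.map (Ideal.Quotient.mk p')).map (Ideal.Quotient.mk K) = Qb := by
      rw [← hQbeq]
      exact Ideal.map_comap_of_surjective _ Ideal.Quotient.mk_surjective _
    rw [this]
    exact Ideal.height_eq_zero_iff.mpr hQb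
  rw [hzero, add_zero] at hmain
  exact hmain

end general

section completion

variable (A : Type u) [CommRing A] [IsLocalRing A] [IsNoetherianRing A]

local notation "A'" => AdicCompletion (maximalIdeal A) A

/-- Part 1: `s_{Â, IÂ}(M̂) ≤ s_{A,I}(M)`. -/
theorem cutoff_completion_le (I : Ideal A) (M : Type u) [AddCommGroup M] [Module A M]
    [Module.Finite A M] :
    Dual2.cutoff A' (I.map (algebraMap A A')) (AdicCompletion (maximalIdeal A) M) ≤
      Dual2.cutoff A I M := by
  haveI : IsNoetherianRing A' := ComplEtale.isNoetherianRing_completion A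
  let e : AdicCompletion (maximalIdeal A) M ≃ₗ[A'] A' ⊗[A] M :=
    (AdicCompletion.ofTensorProductEquivOfFiniteNoetherian (maximalIdeal A) M).symm
  have key : ∀ (p q : PrimeSpectrum A) (hpq : p ≤ q), ¬ I ≤ p.asIdeal → I ≤ q.asIdeal →
      Dual2.cutoff A' (I.map (algebraMap A A')) (AdicCompletion (maximalIdeal A) M) ≤
        LocCoh.depth (Localization.AtPrime p.asIdeal) (LocalizedModule p.asIdeal.primeCompl M) +
          Order.height (⟨q, hpq⟩ : Set.Ici p) := by
    intro p q hpq hIp hIq
    haveI := p.2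
    haveI := q.2
    -- `q'` minimal over `q Â`
    have hqm : q.asIdeal.map (algebraMap A A') ≤ maximalIdeal A' := by
      rw [AdicCompletion.maximalIdeal_eq_map (R := A)]
      exact Ideal.map_mono (IsLocalRing.le_maximalIdeal q.2.ne_top)
    obtain ⟨q', hq'min, -⟩ := Ideal.exists_minimalPrimes_le hqm
    haveI hq'p : q'.IsPrime := hq'min.1.1
    have hq'q : q'.comap (algebraMap A A') = q.asIdeal :=
      comap_eq_of_mem_minimalPrimes_map q.asIdeal hq'min
    have hpq' : p.asIdeal.map (algebraMap A A') ≤ q' :=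
      (Ideal.map_mono hpq).trans hq'min.1.2
    obtain ⟨p', hp'min, hp'q'⟩ := Ideal.exists_minimalPrimes_le hpq'
    haveI hp'p : p'.IsPrime := hp'min.1.1
    have hp'p' : p'.comap (algebraMap A A') = p.asIdeal :=
      comap_eq_of_mem_minimalPrimes_map p.asIdeal hp'min
    have hdepth := BootDepth.depth_localization_baseChange (A := A) (B := A') M
      (AdicCompletion (maximalIdeal A) M) e p.asIdeal p' hp'min hp'p'
    have hle' : (⟨p', hp'p⟩ : PrimeSpectrum A') ≤ ⟨q', hq'p⟩ := hp'q'
    have hht : Order.height (⟨⟨q', hq'p⟩, hle'⟩ : Set.Ici (⟨p', hp'p⟩ : PrimeSpectrum A')) ≤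
        Order.height (⟨q, hpq⟩ : Set.Ici p) := by
      rw [height_Ici_eq, height_Ici_eq]
      exact height_quotient_le p.asIdeal q.asIdeal hpq p' q' hp'q' hp'p' hq'q hq'min
    unfold Dual2.cutoff
    refine iInf_le_of_le ⟨p', hp'p⟩ (iInf_le_of_le ⟨q', hq'p⟩ (iInf_le_of_le hle'
      (iInf_le_of_le ?_ (iInf_le_of_le ?_ ?_))))
    · intro h
      apply hIp
      rw [← hp'p']
      exact Ideal.map_le_iff_le_comap.mp h
    · exact (Ideal.map_mono hIq).trans hq'min.1.2
    · rw [hdepth]
      exact add_le_add le_rfl hht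
  unfold Dual2.cutoff
  exact le_iInf fun p => le_iInf fun q => le_iInf fun hpq => le_iInf fun hIp =>
    le_iInf fun hIq => key p q hpq hIp hIq

end completion

end Groth.Agent.Lib.Helper14.Cutoff
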