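import Mathlib
import Groth.Prelude.Def_CAlg
import Groth.Agent.Lib.Helper4.BootDepth

/-!
# Depth of localizations of a flat base change (helper14)

Generalisation of `Helper4.BootDepth.depth_localization_baseChange` to arbitrary primes `P`
lying over `𝔭`: `depth (B ⊗ M)_P = depth M_𝔭 + depth (B_P / 𝔭 B_P)`.
-/

set_option autoImplicit false
set_option linter.style.haveILetI false
set_option linter.unusedSectionVars false
set_option linter.unusedVariables false
set_option maxHeartbeats 1600000

universe u

open TensorProduct IsLocalRing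

namespace Groth.Agent.Lib.Helper14.Cutoff

open Groth.Agent.Lib.Helper4

variable {A B : Type u} [CommRing A] [CommRing B] [Algebra A B] [IsNoetherianRing A]
  [IsNoetherianRing B] [Module.Flat A B]

theorem depth_localization_baseChange_add (M : Type u) [AddCommGroup M] [Module A M]
    [Module.Finite A M] (X : Type u) [AddCommGroup X] [Module B X] (e : X ≃ₗ[B] B ⊗[A] M)
    (𝔭 : Ideal A) [𝔭.IsPrime] (P : Ideal B) [P.IsPrime] [hlo : P.LiesOver 𝔭]
    [alg : Algebra (Localization.AtPrime 𝔭) (Localization.AtPrime P)]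
    [Localization.AtPrime.IsLiesOverAlgebra 𝔭 P] :
    LocCoh.depth (Localization.AtPrime P) (LocalizedModule P.primeCompl X) =
      LocCoh.depth (Localization.AtPrime 𝔭) (LocalizedModule 𝔭.primeCompl M) +
      LocCoh.depth (Localization.AtPrime P) ((Localization.AtPrime P) ⧸
        ((maximalIdeal (Localization.AtPrime 𝔭)).map
          (algebraMap (Localization.AtPrime 𝔭) (Localization.AtPrime P)) •
          (⊤ : Submodule (Localization.AtPrime P) (Localization.AtPrime P)))) := by
  haveI hst : IsScalarTower A (Localization.AtPrime 𝔭) (Localization.AtPrime P) := inferInstance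
  haveI hfl : Module.Flat (Localization.AtPrime 𝔭) (Localization.AtPrime P) := inferInstance
  haveI hloc : IsLocalHom (algebraMap (Localization.AtPrime 𝔭) (Localization.AtPrime P)) := by
    rw [Localization.AtPrime.IsLiesOverAlgebra.algebraMap_eq (p := 𝔭) (P := P)]
    exact Localization.isLocalHom_localRingHom _ _ _ _
  let e1 : LocalizedModule P.primeCompl X ≃ₗ[Localization.AtPrime P]
      (Localization.AtPrime P) ⊗[B] X := LocalizedModule.equivTensorProduct P.primeCompl X
  let e2 : (Localization.AtPrime P) ⊗[B] X ≃ₗ[Localization.AtPrime P]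
      (Localization.AtPrime P) ⊗[B] (B ⊗[A] M) :=
    TensorProduct.AlgebraTensorModule.congr
      (LinearEquiv.refl (Localization.AtPrime P) (Localization.AtPrime P)) e
  let e3 : (Localization.AtPrime P) ⊗[B] (B ⊗[A] M) ≃ₗ[Localization.AtPrime P]
      (Localization.AtPrime P) ⊗[A] M :=
    TensorProduct.AlgebraTensorModule.cancelBaseChange A B (Localization.AtPrime P)
      (Localization.AtPrime P) M
  let e4 : (Localization.AtPrime P) ⊗[Localization.AtPrime 𝔭] ((Localization.AtPrime 𝔭) ⊗[A] M)
      ≃ₗ[Localization.AtPrime P] (Localization.AtPrime P) ⊗[A] M :=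
    TensorProduct.AlgebraTensorModule.cancelBaseChange A (Localization.AtPrime 𝔭)
      (Localization.AtPrime P) (Localization.AtPrime P) M
  let e5 : LocalizedModule 𝔭.primeCompl M ≃ₗ[Localization.AtPrime 𝔭]
      (Localization.AtPrime 𝔭) ⊗[A] M := LocalizedModule.equivTensorProduct 𝔭.primeCompl M
  let e6 : (Localization.AtPrime P) ⊗[Localization.AtPrime 𝔭] (LocalizedModule 𝔭.primeCompl M)
      ≃ₗ[Localization.AtPrime P]
      (Localization.AtPrime P) ⊗[Localization.AtPrime 𝔭] ((Localization.AtPrime 𝔭) ⊗[A] M) :=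
    TensorProduct.AlgebraTensorModule.congr
      (LinearEquiv.refl (Localization.AtPrime P) (Localization.AtPrime P)) e5
  obtain ⟨E, -⟩ : ∃ E : LocalizedModule P.primeCompl X ≃ₗ[Localization.AtPrime P]
      (Localization.AtPrime P) ⊗[Localization.AtPrime 𝔭] (LocalizedModule 𝔭.primeCompl M), True :=
    ⟨e1 ≪≫ₗ e2 ≪≫ₗ e3 ≪≫ₗ e4.symm ≪≫ₗ e6.symm, trivial⟩
  have hE : LocCoh.depth (Localization.AtPrime P) (LocalizedModule P.primeCompl X) =
      LocCoh.depth (Localization.AtPrime P)
        ((Localization.AtPrime P) ⊗[Localization.AtPrime 𝔭] (LocalizedModule 𝔭.primeCompl M)) :=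
    idealDepth_congr _ E
  rw [hE, depth_tensor_eq (R := Localization.AtPrime 𝔭) (S := Localization.AtPrime P)
    (LocalizedModule 𝔭.primeCompl M) (Localization.AtPrime P)]

end Groth.Agent.Lib.Helper14.Cutoff
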