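import Mathlib
import Groth.Prelude.Def_DualLC
import Groth.Prelude.Def_EGA4b
import Groth.Prelude.Def_Found
import Groth.Agent.Lib.Helper4.RkLift
import Groth.Agent.Lib.Helper4.RelCodim
import Groth.Agent.Lib.Helper14.CatenaryDim
import Groth.Agent.Lib.Helper14.Catenary
import Groth.Agent.Lib.Helper14.FEChain2
import Groth.Agent.Lib.Helper14.FEChain6
import Groth.Agent.Lib.Helper14.FormalEquidim
import Groth.Agent.Lib.Helper14.EquidimTransfer
import Groth.Agent.Lib.Helper14.Ratliff.Main

/-!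
# Dimension lemmas for the cutoff invariant under completion (helper14)
-/

set_option autoImplicit false
set_option linter.style.haveILetI false
set_option linter.unusedSectionVars false
set_option linter.unusedVariables false
set_option maxHeartbeats 1600000

universe u

open IsLocalRing

namespace Groth.Agent.Lib.Helper14.Cutoff

open Groth.Agent.Lib.Helper4

section beta

variable (B : Type u) [CommRing B] [IsNoetherianRing B] [IsLocalRing B]

theorem comap_map_mk {S : Type u} [CommRing S] (K J : Ideal S) (hJ : K ≤ J) :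
    (J.map (Ideal.Quotient.mk K)).comap (Ideal.Quotient.mk K) = J := by
  rw [Ideal.comap_map_of_surjective _ Ideal.Quotient.mk_surjective, ← RingHom.ker_eq_comap_bot,
    Ideal.mk_ker, sup_eq_left.mpr hJ]

theorem map_mk_isPrime {S : Type u} [CommRing S] (K J : Ideal S) [J.IsPrime] (hJ : K ≤ J) :
    (J.map (Ideal.Quotient.mk K)).IsPrime :=
  Ideal.map_isPrime_of_surjective Ideal.Quotient.mk_surjective (by rwa [Ideal.mk_ker])

theorem height_map_map_mk {S : Type u} [CommRing S] (I P Q : Ideal S) (hIP : I ≤ P) :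
    ((Q.map (Ideal.Quotient.mk I)).map (Ideal.Quotient.mk (P.map (Ideal.Quotient.mk I)))).height =
      (Q.map (Ideal.Quotient.mk P)).height := by
  have h := RingEquiv.height_map (DoubleQuot.quotQuotEquivQuotOfLE hIP)
    ((Q.map (Ideal.Quotient.mk I)).map (Ideal.Quotient.mk (P.map (Ideal.Quotient.mk I))))
  have h2 : Ideal.map (DoubleQuot.quotQuotEquivQuotOfLE hIP)
    ((Q.map (Ideal.Quotient.mk I)).map (Ideal.Quotient.mk (P.map (Ideal.Quotient.mk I)))) =
      Q.map (Ideal.Quotient.mk P) := by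
    have h3 : Ideal.map (DoubleQuot.quotQuotEquivQuotOfLE hIP)
      ((Q.map (Ideal.Quotient.mk I)).map (Ideal.Quotient.mk (P.map (Ideal.Quotient.mk I)))) =
      Ideal.map ((DoubleQuot.quotQuotEquivQuotOfLE hIP : _ ≃+* _) : _ →+* _)
      ((Q.map (Ideal.Quotient.mk I)).map (Ideal.Quotient.mk (P.map (Ideal.Quotient.mk I)))) := rfl
    rw [h3, Ideal.map_map, Ideal.map_map]
    have h4 : (((DoubleQuot.quotQuotEquivQuotOfLE hIP : _ ≃+* _) : _ →+* _).comp
      (Ideal.Quotient.mk (P.map (Ideal.Quotient.mk I)))).comp (Ideal.Quotient.mk I) =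
        Ideal.Quotient.mk P := by
      ext x
      exact DoubleQuot.quotQuotEquivQuotOfLE_quotQuotMk x hIP
    rw [h4]
  rw [← h, h2]

/-- In an equidimensional catenary Noetherian local ring heights are additive along `P ≤ Q`. -/
theorem height_eq_add_of_le (hcat : CAlg.IsCatenary B) (heq : EGA4.IsEquidim B)
    (P Q : Ideal B) [hP : P.IsPrime] [hQ : Q.IsPrime] (hPQ : P ≤ Q) :
    Q.height = P.height + (Q.map (Ideal.Quotient.mk P)).height := by
  haveI : IsDomain (B ⧸ P) := Ideal.Quotient.isDomain P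
  haveI : IsLocalRing (B ⧸ P) :=
    IsLocalRing.of_surjective' (Ideal.Quotient.mk P) Ideal.Quotient.mk_surjective
  haveI hQc : (Q.map (Ideal.Quotient.mk P)).IsPrime := map_mk_isPrime P Q hPQ
  have hcatC : CAlg.IsCatenary (B ⧸ P) :=
    Groth.Agent.Lib.Helper14.isCatenary_of_surjective (Ideal.Quotient.mk P)
      Ideal.Quotient.mk_surjective hcat
  have heqC : EGA4.IsEquidim (B ⧸ P) := Groth.Agent.Lib.Helper14.FEChain6.isEquidim_of_isDomain _
  have E1 := RkLift.height_add_coheight_eq hcat heq ⟨P, hP⟩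
  have E2 := RkLift.height_add_coheight_eq hcat heq ⟨Q, hQ⟩
  have E3 := RkLift.height_add_coheight_eq hcatC heqC ⟨Q.map (Ideal.Quotient.mk P), hQc⟩
  have F1 := Groth.Agent.Lib.Helper14.ringKrullDim_quotient_eq_coheight (⟨P, hP⟩ : PrimeSpectrum B)
  have F2 := Groth.Agent.Lib.Helper14.ringKrullDim_quotient_eq_coheight (⟨Q, hQ⟩ : PrimeSpectrum B)
  have F3 := Groth.Agent.Lib.Helper14.ringKrullDim_quotient_eq_coheight
    (⟨Q.map (Ideal.Quotient.mk P), hQc⟩ : PrimeSpectrum (B ⧸ P))
  change ringKrullDim (B ⧸ P) = _ at F1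
  change ringKrullDim (B ⧸ Q) = _ at F2
  change ringKrullDim ((B ⧸ P) ⧸ Q.map (Ideal.Quotient.mk P)) = _ at F3
  have e1 := FormalEquidim.quotComapEquiv (Ideal.Quotient.mk P) Ideal.Quotient.mk_surjective
    (Q.map (Ideal.Quotient.mk P))
  rw [comap_map_mk P Q hPQ] at e1
  have F4 : ringKrullDim (B ⧸ Q) = ringKrullDim ((B ⧸ P) ⧸ Q.map (Ideal.Quotient.mk P)) :=
    ringKrullDim_eq_of_ringEquiv e1
  change ((P.height + _ : ℕ∞) : WithBot ℕ∞) = _ at E1
  change ((Q.height + _ : ℕ∞) : WithBot ℕ∞) = _ at E2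
  change (((Q.map (Ideal.Quotient.mk P)).height + _ : ℕ∞) : WithBot ℕ∞) = _ at E3
  rw [F1] at E3
  rw [F2, F3] at F4
  have hfin : ringKrullDim B ≠ ⊤ := ringKrullDim_ne_top
  generalize P.height = a at E1
  generalize Q.height = b at E2
  generalize (Q.map (Ideal.Quotient.mk P)).height = c at E3
  generalize Order.coheight (⟨P, hP⟩ : PrimeSpectrum B) = x at E1 E3
  generalize Order.coheight (⟨Q, hQ⟩ : PrimeSpectrum B) = y at E2 F4
  generalize Order.coheight (⟨Q.map (Ideal.Quotient.mk P), hQc⟩ : PrimeSpectrum (B ⧸ P)) = y'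
    at E3 F4
  have hyy' : y = y' := by exact_mod_cast F4
  have E3' : c + y' = x := by exact_mod_cast E3
  have E12 : a + x = b + y := by
    have : ((a + x : ℕ∞) : WithBot ℕ∞) = ((b + y : ℕ∞) : WithBot ℕ∞) := E1.trans E2.symm
    exact_mod_cast this
  have hax : a + x ≠ ⊤ := by
    intro h
    rw [h] at E1
    exact hfin E1.symm
  have hxt : x ≠ ⊤ := fun h => hax (by rw [h, add_top])
  have hat : a ≠ ⊤ := fun h => hax (by rw [h, top_add])
  have hyt : y ≠ ⊤ := by
    intro h
    rw [← hyy'] at E3'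
    rw [h, add_top] at E3'
    exact hxt E3'.symm
  have hct : c ≠ ⊤ := by
    intro h
    rw [h, top_add] at E3'
    exact hxt E3'.symm
  have hbt : b ≠ ⊤ := by
    intro h
    rw [h, top_add] at E12
    exact hax E12
  rw [← hyy'] at E3'
  lift a to ℕ using hat
  lift b to ℕ using hbt
  lift c to ℕ using hct
  lift x to ℕ using hxt
  lift y to ℕ using hyt
  norm_cast at E3' E12 ⊢
  omega

end beta

section alpha

variable {R S : Type u} [CommRing R] [CommRing S] [Algebra R S]

/-- relative heights can only grow along a flat ring map. -/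
theorem height_quotient_le_of_flat [Module.Flat R S] [IsNoetherianRing R] [IsNoetherianRing S]
    (p q : Ideal R) [p.IsPrime] [q.IsPrime] (hpq : p ≤ q) (q' : Ideal S) [q'.IsPrime]
    (hq : q'.comap (algebraMap R S) = q) :
    (q.map (Ideal.Quotient.mk p)).height ≤
      (q'.map (Ideal.Quotient.mk (p.map (algebraMap R S)))).height := by
  have hpq' : p.map (algebraMap R S) ≤ q' := by
    rw [Ideal.map_le_iff_le_comap, hq]; exact hpq
  haveI hflat : Module.Flat (R ⧸ p) (S ⧸ p.map (algebraMap R S)) :=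
    Module.Flat.of_linearEquiv
      (Algebra.TensorProduct.quotIdealMapEquivQuotTensor S p).toLinearEquiv
  haveI h𝔮 : (q.map (Ideal.Quotient.mk p)).IsPrime := map_mk_isPrime p q hpq
  haveI h𝔔 : (q'.map (Ideal.Quotient.mk (p.map (algebraMap R S)))).IsPrime :=
    map_mk_isPrime _ q' hpq'
  have halg : ∀ a : R, algebraMap (R ⧸ p) (S ⧸ p.map (algebraMap R S)) (Ideal.Quotient.mk p a) =
      Ideal.Quotient.mk (p.map (algebraMap R S)) (algebraMap R S a) := fun a => rfl
  haveI hlo : (q'.map (Ideal.Quotient.mk (p.map (algebraMap R S)))).LiesOver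
      (q.map (Ideal.Quotient.mk p)) := by
    refine ⟨?_⟩
    ext x
    obtain ⟨a, rfl⟩ := Ideal.Quotient.mk_surjective x
    rw [Ideal.under_def, Ideal.mem_comap, halg]
    have h1 : Ideal.Quotient.mk p a ∈ q.map (Ideal.Quotient.mk p) ↔ a ∈ q := by
      rw [← Ideal.mem_comap, comap_map_mk p q hpq]
    have h2 : Ideal.Quotient.mk (p.map (algebraMap R S)) (algebraMap R S a) ∈
        q'.map (Ideal.Quotient.mk (p.map (algebraMap R S))) ↔ algebraMap R S a ∈ q' := by
      rw [← Ideal.mem_comap, comap_map_mk _ q' hpq']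
    rw [h1, h2, ← hq, Ideal.mem_comap]
  rw [Ideal.height_eq_height_add_of_liesOver_of_hasGoingDown (q.map (Ideal.Quotient.mk p))
    (q'.map (Ideal.Quotient.mk (p.map (algebraMap R S))))]
  exact le_self_add

end alpha

section gamma

open Algebra in
/-- The dimension of `S_r / I S_r` is the height of `r / I`. -/
theorem ringKrullDim_localization_quotient {S : Type u} [CommRing S] (I r : Ideal S) [r.IsPrime]
    (hIr : I ≤ r) :
    ringKrullDim (Localization.AtPrime r ⧸ I.map (algebraMap S (Localization.AtPrime r))) =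
      ((r.map (Ideal.Quotient.mk I)).height : WithBot ℕ∞) := by
  haveI hrp : (r.map (Ideal.Quotient.mk I)).IsPrime := map_mk_isPrime I r hIr
  haveI hlo : (r.map (Ideal.Quotient.mk I)).LiesOver r := ⟨(comap_map_mk I r hIr).symm⟩
  have hsub : algebraMapSubmonoid (S ⧸ I) r.primeCompl = (r.map (Ideal.Quotient.mk I)).primeCompl :=
    Ideal.algebraMapSubmonoid_primeCompl_of_liesOver_surjective (r.map (Ideal.Quotient.mk I)) r
      Ideal.Quotient.mk_surjective
  have inst : IsLocalization (algebraMapSubmonoid (S ⧸ I) r.primeCompl)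
      (Localization.AtPrime r ⧸ I.map (algebraMap S (Localization.AtPrime r))) := inferInstance
  rw [hsub] at inst
  haveI : IsLocalization.AtPrime
      (Localization.AtPrime r ⧸ I.map (algebraMap S (Localization.AtPrime r)))
      (r.map (Ideal.Quotient.mk I)) := inst
  exact IsLocalization.AtPrime.ringKrullDim_eq_height (r.map (Ideal.Quotient.mk I)) _

end gamma

section main

variable (A : Type u) [CommRing A] [IsLocalRing A] [IsNoetherianRing A]

local notation "A'" => AdicCompletion (maximalIdeal A) A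

/-- Lemma H: for a universally catenary local ring, `ht(q/p) ≤ ht(p'/pÂ) + ht(q'/p')`. -/
theorem height_Ici_le (hUC : CAlg.IsUniversallyCatenary A) (p q : PrimeSpectrum A) (hpq : p ≤ q)
    (p' q' : PrimeSpectrum A') (hle' : p' ≤ q')
    (hp : p'.asIdeal.comap (algebraMap A A') = p.asIdeal)
    (hq : q'.asIdeal.comap (algebraMap A A') = q.asIdeal) :
    Order.height (⟨q, hpq⟩ : Set.Ici p) ≤
      (p'.asIdeal.map (Ideal.Quotient.mk (p.asIdeal.map (algebraMap A A')))).height +
        Order.height (⟨q', hle'⟩ : Set.Ici p') := by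
  haveI : IsNoetherianRing A' := ComplEtale.isNoetherianRing_completion A
  haveI := p.2
  haveI := q.2
  haveI := p'.2
  haveI := q'.2
  rw [height_Ici_eq, height_Ici_eq]
  set I₀ := p.asIdeal.map (algebraMap A A') with hI₀
  have hI₀p' : I₀ ≤ p'.asIdeal := by
    rw [hI₀, Ideal.map_le_iff_le_comap, hp]
  have hI₀q' : I₀ ≤ q'.asIdeal := hI₀p'.trans hle'
  have hα := height_quotient_le_of_flat (R := A) (S := A') p.asIdeal q.asIdeal hpq q'.asIdeal hq
  refine hα.trans ?_
  -- the ring `B = Â / pÂ`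
  haveI : Nontrivial (A ⧸ p.asIdeal) := Ideal.Quotient.nontrivial_iff.mpr p.2.ne_top
  haveI : IsLocalRing (A ⧸ p.asIdeal) :=
    IsLocalRing.of_surjective' (Ideal.Quotient.mk _) Ideal.Quotient.mk_surjective
  haveI : IsDomain (A ⧸ p.asIdeal) := Ideal.Quotient.isDomain _
  have hne : I₀ ≠ ⊤ := fun h => p'.2.ne_top (top_le_iff.mp (h ▸ hI₀p'))
  haveI : Nontrivial (A' ⧸ I₀) := Ideal.Quotient.nontrivial_iff.mpr hne
  haveI : IsLocalRing (A' ⧸ I₀) :=
    IsLocalRing.of_surjective' (Ideal.Quotient.mk _) Ideal.Quotient.mk_surjective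
  obtain ⟨e⟩ := Groth.Agent.Lib.Helper14.FEChain2.nonempty_quotient_map_equiv A p.asIdeal
  have hUC' := Groth.Agent.Lib.Helper14.ExcFC.isUniversallyCatenary_quotient A hUC p.asIdeal
  have heqB : EGA4.IsEquidim (A' ⧸ I₀) :=
    Groth.Agent.Lib.Helper14.EquidimTransfer.isEquidim_of_ringEquiv e.symm
      (Groth.Agent.Lib.Helper14.Ratliff.isEquidim_cpl_of_isUniversallyCatenary (A ⧸ p.asIdeal) hUC')
  have hcatB : CAlg.IsCatenary (A' ⧸ I₀) :=
    Groth.Agent.Lib.Helper14.isCatenary_of_surjective (Ideal.Quotient.mk I₀)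
      Ideal.Quotient.mk_surjective (Groth.Agent.Lib.Helper14.FEChain2.isCatenary_cpl A)
  haveI hP'B : (p'.asIdeal.map (Ideal.Quotient.mk I₀)).IsPrime := map_mk_isPrime I₀ _ hI₀p'
  haveI hQ'B : (q'.asIdeal.map (Ideal.Quotient.mk I₀)).IsPrime := map_mk_isPrime I₀ _ hI₀q'
  have hβ := height_eq_add_of_le (A' ⧸ I₀) hcatB heqB (p'.asIdeal.map (Ideal.Quotient.mk I₀))
    (q'.asIdeal.map (Ideal.Quotient.mk I₀)) (Ideal.map_mono hle')
  rw [hβ]
  refine add_le_add le_rfl (le_of_eq ?_)
  exact height_map_map_mk I₀ p'.asIdeal q'.asIdeal hI₀p'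

end main

end Groth.Agent.Lib.Helper14.Cutoff
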