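import Mathlib
import Groth.Prelude.Def_DualLC
import Groth.Prelude.Def_EGA4b
import Groth.Agent.Lib.Helper4.FlatFibre
import Groth.Agent.Lib.Helper4.FaltRing
import Groth.Agent.Lib.Helper14.Cutoff.Dim

/-!
# `(S_n)` fibres bound the depth of the fibre local rings (helper14)
-/

set_option autoImplicit false
set_option linter.style.haveILetI false
set_option linter.unusedSectionVars false
set_option linter.unusedVariables false
set_option maxHeartbeats 1600000

universe u

open IsLocalRing

namespace Groth.Agent.Lib.Helper14.Cutoff

open Groth.Agent.Lib.Helper4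

variable (R S : Type u) [CommRing R] [CommRing S] [IsNoetherianRing R] [IsNoetherianRing S]
  [Algebra R S]

theorem fibre_bound (n : ℕ) (p : Ideal R) [p.IsPrime]
    (hSk : LocCoh.HasSk n (p.Fiber S) (p.Fiber S))
    (r : Ideal S) [r.IsPrime] (hr : r.comap (algebraMap R S) = p)
    [Algebra (Localization.AtPrime p) (Localization.AtPrime r)]
    [IsScalarTower R (Localization.AtPrime p) (Localization.AtPrime r)] :
    min (n : ℕ∞) ((r.map (Ideal.Quotient.mk (p.map (algebraMap R S)))).height) ≤
      LocCoh.depth (Localization.AtPrime r) (Localization.AtPrime r ⧸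
        ((maximalIdeal (Localization.AtPrime p)).map
          (algebraMap (Localization.AtPrime p) (Localization.AtPrime r)) •
          (⊤ : Submodule (Localization.AtPrime r) (Localization.AtPrime r)))) := by
  have hcl := (FlatFibre.hasSk_fiber_iff R S p n).mp hSk r hr
  subst hr
  set J : Ideal (Localization.AtPrime r) :=
    (r.comap (algebraMap R S)).map (algebraMap R (Localization.AtPrime r)) with hJ
  have hIr : (r.comap (algebraMap R S)).map (algebraMap R S) ≤ r := Ideal.map_comap_le
  have hJ2 : J = ((r.comap (algebraMap R S)).map (algebraMap R S)).map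
      (algebraMap S (Localization.AtPrime r)) := by
    rw [hJ, Ideal.map_map, ← IsScalarTower.algebraMap_eq]
  have hJ3 : (maximalIdeal (Localization.AtPrime (r.comap (algebraMap R S)))).map
      (algebraMap (Localization.AtPrime (r.comap (algebraMap R S))) (Localization.AtPrime r)) =
      J := by
    rw [← Localization.AtPrime.map_eq_maximalIdeal, Ideal.map_map, ← IsScalarTower.algebraMap_eq]
  have hJne : J ≠ ⊤ := by
    rw [hJ2]
    intro h
    have h1 : Ideal.map (algebraMap S (Localization.AtPrime r)) r = ⊤ :=
      top_le_iff.mp (h ▸ Ideal.map_mono hIr)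
    exact (IsLocalRing.maximalIdeal.isMaximal (Localization.AtPrime r)).ne_top
      (by rw [← Localization.AtPrime.map_eq_maximalIdeal]; exact h1)
  haveI : Nontrivial (Localization.AtPrime r ⧸ J) := Ideal.Quotient.nontrivial_iff.mpr hJne
  haveI hloc : IsLocalRing (Localization.AtPrime r ⧸ J) :=
    IsLocalRing.of_surjective' (Ideal.Quotient.mk J) Ideal.Quotient.mk_surjective
  have hcl' : min (n : ℕ∞) (maximalIdeal (Localization.AtPrime r ⧸ J)).height ≤
      LocCoh.depth (Localization.AtPrime r ⧸ J) (Localization.AtPrime r ⧸ J) := hcl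
  -- dimension
  have hdim : ((maximalIdeal (Localization.AtPrime r ⧸ J)).height : WithBot ℕ∞) =
      ((r.map (Ideal.Quotient.mk ((r.comap (algebraMap R S)).map (algebraMap R S)))).height :
        WithBot ℕ∞) := by
    rw [IsLocalRing.maximalIdeal_height_eq_ringKrullDim,
      ← ringKrullDim_localization_quotient _ r hIr]
    exact ringKrullDim_eq_of_ringEquiv (Ideal.quotEquivOfEq hJ2)
  have hdim' : (maximalIdeal (Localization.AtPrime r ⧸ J)).height =
      (r.map (Ideal.Quotient.mk ((r.comap (algebraMap R S)).map (algebraMap R S)))).height := by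
    exact_mod_cast hdim
  rw [hdim'] at hcl'
  refine hcl'.trans (le_of_eq ?_)
  -- depth
  haveI : IsLocalHom (algebraMap (Localization.AtPrime r) (Localization.AtPrime r ⧸ J)) :=
    IsLocalHom.of_surjective _ Ideal.Quotient.mk_surjective
  rw [← Falt.depth_eq_of_surjective (A := Localization.AtPrime r)
    (A' := Localization.AtPrime r ⧸ J) Ideal.Quotient.mk_surjective (Localization.AtPrime r ⧸ J)]
  have hsub : J = (maximalIdeal (Localization.AtPrime (r.comap (algebraMap R S)))).map
      (algebraMap (Localization.AtPrime (r.comap (algebraMap R S))) (Localization.AtPrime r)) •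
      (⊤ : Submodule (Localization.AtPrime r) (Localization.AtPrime r)) := by
    rw [hJ3, smul_eq_mul, Ideal.mul_top]
  exact idealDepth_congr _ (Submodule.quotEquivOfEq _ _ hsub)

end Groth.Agent.Lib.Helper14.Cutoff
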