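import Mathlib
import Groth.Prelude.Def_DualLC
import Groth.Prelude.Def_EGA4b
import Groth.Agent.Lib.Helper14.Cutoff.DepthLoc
import Groth.Agent.Lib.Helper14.Cutoff.Part1
import Groth.Agent.Lib.Helper14.Cutoff.Dim
import Groth.Agent.Lib.Helper14.Cutoff.Fibre

/-!
# The cutoff invariant under completion, part 2 (helper14)
-/

set_option autoImplicit false
set_option linter.style.haveILetI false
set_option linter.unusedSectionVars false
set_option linter.unusedVariables false
set_option maxHeartbeats 1600000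

universe u

open TensorProduct IsLocalRing

namespace Groth.Agent.Lib.Helper14.Cutoff

open Groth.Agent.Lib.Helper4

theorem arith_aux (n : ℕ) (a δ d h h' c : ℕ∞) (h1 : min (n : ℕ∞) d ≤ δ) (h2 : h ≤ d + h')
    (h3 : 1 ≤ h') (h4 : c ≤ a + h) : min ((n : ℕ∞) + 1) c ≤ a + δ + h' := by
  rcases le_total (n : ℕ∞) d with hnd | hdn
  · rw [min_eq_left hnd] at h1
    refine (min_le_left _ _).trans ?_
    calc (n : ℕ∞) + 1 ≤ δ + h' := add_le_add h1 h3
      _ ≤ a + (δ + h') := le_add_self
      _ = a + δ + h' := (add_assoc _ _ _).symm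
  · rw [min_eq_right hdn] at h1
    refine (min_le_right _ _).trans ?_
    calc c ≤ a + h := h4
      _ ≤ a + (d + h') := add_le_add le_rfl h2
      _ ≤ a + (δ + h') := add_le_add le_rfl (add_le_add h1 le_rfl)
      _ = a + δ + h' := (add_assoc _ _ _).symm

variable (A : Type u) [CommRing A] [IsLocalRing A] [IsNoetherianRing A]

local notation "A'" => AdicCompletion (maximalIdeal A) A

/-- Part 2: `min(n+1, s_{A,I}(M)) ≤ s_{Â, IÂ}(M̂)` when the formal fibres are `(S_n)`. -/
theorem min_cutoff_le_completion (hUC : CAlg.IsUniversallyCatenary A) (I : Ideal A) (M : Type u)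
    [AddCommGroup M] [Module A M] [Module.Finite A M] (n : ℕ)
    (hSn : EGA4.HasSnFormalFibres n A) :
    min ((n : ℕ∞) + 1) (Dual2.cutoff A I M) ≤
      Dual2.cutoff A' (I.map (algebraMap A A')) (AdicCompletion (maximalIdeal A) M) := by
  haveI : IsNoetherianRing A' := ComplEtale.isNoetherianRing_completion A
  let e : AdicCompletion (maximalIdeal A) M ≃ₗ[A'] A' ⊗[A] M :=
    (AdicCompletion.ofTensorProductEquivOfFiniteNoetherian (maximalIdeal A) M).symm
  have key : ∀ (p' q' : PrimeSpectrum A') (hle' : p' ≤ q'),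
      ¬ I.map (algebraMap A A') ≤ p'.asIdeal → I.map (algebraMap A A') ≤ q'.asIdeal →
      min ((n : ℕ∞) + 1) (Dual2.cutoff A I M) ≤
        LocCoh.depth (Localization.AtPrime p'.asIdeal)
          (LocalizedModule p'.asIdeal.primeCompl (AdicCompletion (maximalIdeal A) M)) +
          Order.height (⟨q', hle'⟩ : Set.Ici p') := by
    intro p' q' hle' hIp' hIq'
    haveI := p'.2
    haveI := q'.2
    set p : PrimeSpectrum A := ⟨p'.asIdeal.comap (algebraMap A A'), Ideal.comap_isPrime _ _⟩
      with hp
    set q : PrimeSpectrum A := ⟨q'.asIdeal.comap (algebraMap A A'), Ideal.comap_isPrime _ _⟩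
      with hq
    have hpq : p ≤ q := Ideal.comap_mono hle'
    have hIp : ¬ I ≤ p.asIdeal := fun h => hIp' (Ideal.map_le_iff_le_comap.mpr h)
    have hIq : I ≤ q.asIdeal := Ideal.map_le_iff_le_comap.mp hIq'
    haveI : p.asIdeal.IsPrime := p.2
    haveI hlo : p'.asIdeal.LiesOver p.asIdeal := ⟨rfl⟩
    letI := Localization.AtPrime.algebraOfLiesOver p.asIdeal p'.asIdeal
    have hdepth := depth_localization_baseChange_add (A := A) (B := A') M
      (AdicCompletion (maximalIdeal A) M) e p.asIdeal p'.asIdeal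
    have hfib := fibre_bound A A' n p.asIdeal (hSn p.asIdeal) p'.asIdeal rfl
    have hH := height_Ici_le A hUC p q hpq p' q' hle' rfl rfl
    have hne : p' ≠ q' := by
      rintro rfl
      exact hIp' hIq'
    have h1 : (1 : ℕ∞) ≤ Order.height (⟨q', hle'⟩ : Set.Ici p') := by
      have hlt : (⟨p', le_refl p'⟩ : Set.Ici p') < ⟨q', hle'⟩ :=
        lt_of_le_of_ne hle' (fun h => hne (congrArg Subtype.val h))
      have := Order.height_add_one_le hlt
      exact le_trans (by simp) this
    have hcut : Dual2.cutoff A I M ≤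
        LocCoh.depth (Localization.AtPrime p.asIdeal) (LocalizedModule p.asIdeal.primeCompl M) +
          Order.height (⟨q, hpq⟩ : Set.Ici p) := by
      unfold Dual2.cutoff
      exact iInf_le_of_le p (iInf_le_of_le q (iInf_le_of_le hpq
        (iInf_le_of_le hIp (iInf_le_of_le hIq le_rfl))))
    rw [hdepth]
    exact arith_aux n _ _ _ _ _ _ hfib hH h1 hcut
  unfold Dual2.cutoff
  exact le_iInf fun p' => le_iInf fun q' => le_iInf fun hle' => le_iInf fun hIp' =>
    le_iInf fun hIq' => key p' q' hle' hIp' hIq'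

end Groth.Agent.Lib.Helper14.Cutoff
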